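/-
A finite group acting on abelian groups of two different prime powers so that every nontrivial element
fixes only trivial elements cannot have order divisible by both primes.
-/
import Mathlib.GroupTheory.PGroup
import Mathlib.GroupTheory.SpecificGroups.ZGroup
import Cfsg.Agent.Lib.Coprime.UniqueOrderP

set_option autoImplicit false

namespace CfsgLib.PGroup.TwoClassSizes

universe u v

open Subgroup

variable {A : Type u} [Group A] {V : Type v} [CommGroup V] [Finite V] (ρ : A →* MulAut V) (Z : Subgroup V)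

/-- A `p`-group normalising a group of order prime to `p` fixes an element outside the fixed points. -/
theorem exists_fixed {p : ℕ} [Fact p.Prime] (hV : IsPGroup p V) (hne : Z ≠ ⊤)
    (X U : Subgroup A) [Finite X] (hZ : ∀ a ∈ X, ∀ z ∈ Z, ρ a z = z)
    (hX : ¬ p ∣ Nat.card X) (hXfix : ∀ x : V, (∀ a ∈ X, ρ a x = x) → x ∈ Z)
    (hU : IsPGroup p U) (hUX : U ≤ normalizer (X : Set A)) :
    ∃ e : V, e ∉ Z ∧ ∀ a ∈ U, ρ a e = e := by
  classical
  haveI := Fintype.ofFinite X
  let ν : V →* V := MonoidHom.mk' (fun x => ∏ a : X, ρ a x)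
    (fun x y => by simp [Finset.prod_mul_distrib])
  have hν : ∀ x, ν x = ∏ a : X, ρ a x := fun x => rfl
  have hfixed : ∀ x : V, ν x ∈ Z := fun x => hXfix _ fun b hb => by
    rw [hν, map_prod]
    refine Fintype.prod_equiv (Equiv.mulLeft (⟨b, hb⟩ : X)) _ _ fun a => ?_
    simp only [Equiv.coe_mulLeft, Subgroup.coe_mul, map_mul, MulAut.mul_apply]
  have hKZ : ∀ x ∈ ν.ker, x ∈ Z → x = 1 := by
    intro x hx hxZ
    rw [MonoidHom.mem_ker, hν, Finset.prod_congr rfl fun (a : X) _ => hZ (a : A) a.2 x hxZ,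
      Finset.prod_const, Finset.card_univ, ← Nat.card_eq_fintype_card] at hx
    obtain ⟨k, hk⟩ := hV x
    have hcop : Nat.Coprime (p ^ k) (Nat.card X) :=
      (((Fact.out : p.Prime).coprime_iff_not_dvd).2 hX).pow_left k
    exact (pow_eq_one_iff_of_coprime hcop).1 ⟨hk, hx⟩
  have hKne : ν.ker ≠ ⊥ := by
    intro hK
    refine hne (eq_top_iff.2 ?_)
    have hinj : Function.Injective ν := (MonoidHom.ker_eq_bot_iff ν).1 hK
    have hsurj := Finite.injective_iff_surjective.1 hinj
    intro x _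
    obtain ⟨y, rfl⟩ := hsurj x
    exact hfixed y
  have hinv : ∀ (b : A), b ∈ U → ∀ x ∈ ν.ker, ρ b x ∈ ν.ker := by
    intro b hb x hx
    rw [MonoidHom.mem_ker, hν] at hx ⊢
    have hn := mem_normalizer_iff.1 (hUX hb)
    let σ : X ≃ X :=
      { toFun := fun a => ⟨b⁻¹ * a * b, (hn _).2 (by simp [mul_assoc])⟩
        invFun := fun a => ⟨b * a * b⁻¹, (hn _).1 a.2⟩
        left_inv := fun a => Subtype.ext (by simp [mul_assoc])
        right_inv := fun a => Subtype.ext (by simp [mul_assoc]) }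
    rw [Fintype.prod_equiv σ (fun a => ρ a (ρ b x)) (fun a => ρ b (ρ a x)) (fun a => by
      show ρ (a : A) (ρ b x) = ρ b (ρ (b⁻¹ * a * b) x)
      rw [← MulAut.mul_apply, ← map_mul, ← MulAut.mul_apply, ← map_mul, mul_assoc b⁻¹,
        mul_inv_cancel_left]), ← map_prod, hx, map_one]
  letI act : MulAction U ν.ker :=
    { smul := fun a x => ⟨ρ a x.1, hinv a a.2 x.1 x.2⟩
      one_smul := fun x => Subtype.ext (by show ρ ((1 : U) : A) x.1 = x.1; simp)
      mul_smul := fun a b x => Subtype.ext (by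
        show ρ ((a * b : U) : A) x.1 = ρ (a : A) (ρ (b : A) x.1)
        simp) }
  haveI : Nontrivial ν.ker := (Subgroup.nontrivial_iff_ne_bot _).2 hKne
  obtain ⟨k, hk0, hk⟩ : ∃ k > 0, Nat.card ν.ker = p ^ k := (hV.to_subgroup ν.ker).nontrivial_iff_card.1 inferInstance
  obtain ⟨e, he, hne1⟩ := hU.exists_fixed_point_of_prime_dvd_card_of_fixed_point ν.ker
    (hk ▸ dvd_pow_self p (by omega)) (a := 1) (fun a => Subtype.ext (map_one (ρ (a : A))))
  refine ⟨e, fun heZ => hne1 (Subtype.ext (hKZ e e.2 heZ).symm), fun a ha => ?_⟩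
  exact congrArg Subtype.val (he ⟨a, ha⟩)

/-- A `W`-module of `p`-power order in which nontrivial elements fix only the trivial elements. -/
structure Rigid (p : ℕ) (W : Type u) [Group W] where
  V : Type v
  [grp : CommGroup V]
  [fin : Finite V]
  ρ : W →* MulAut V
  Z : Subgroup V
  isP : IsPGroup p V
  ne_top : Z ≠ ⊤
  fix_Z : ∀ w : W, ∀ z ∈ Z, ρ w z = z
  fix : ∀ w : W, w ≠ 1 → ∀ x : V, ρ w x = x → x ∈ Z

attribute [instance] Rigid.grp Rigid.fin

variable {W : Type u} [Group W] [Finite W]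

/-- An element of order `p` normalises no nontrivial subgroup of order prime to `p`. -/
theorem Rigid.not_normalizes {p : ℕ} [Fact p.Prime] (M : Rigid.{u, v} p W) {X : Subgroup W} (hX1 : X ≠ ⊥)
    (hX : ¬ p ∣ Nat.card X) {u : W} (hu : orderOf u = p) (huX : u ∈ normalizer (X : Set W)) : False := by
  obtain ⟨⟨a, ha⟩, ha1⟩ := X.ne_bot_iff_exists_ne_one.1 hX1
  obtain ⟨e, he, hfix⟩ := exists_fixed M.ρ M.Z M.isP M.ne_top X (zpowers u) (fun a _ => M.fix_Z a) hX
    (fun x hx => M.fix a (fun e => ha1 (Subtype.ext e)) x (hx a ha))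
    (IsPGroup.of_card (n := 1) (by rw [Nat.card_zpowers, hu, pow_one])) (zpowers_le.2 huX)
  refine he (M.fix u (fun e1 => ?_) e (hfix u (mem_zpowers u)))
  rw [e1, orderOf_one] at hu
  exact (Fact.out : p.Prime).ne_one hu.symm

/-- Every nontrivial normal subgroup has order divisible by `p`. -/
theorem Rigid.dvd_normal {p : ℕ} [Fact p.Prime] (M : Rigid.{u, v} p W) (hp : p ∣ Nat.card W)
    {X : Subgroup W} [X.Normal] (hX1 : X ≠ ⊥) : p ∣ Nat.card X := by
  by_contra hX
  obtain ⟨u, hu⟩ := exists_prime_orderOf_dvd_card' p hp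
  exact M.not_normalizes hX1 hX hu (X.normalizer_eq_top ▸ Subgroup.mem_top u)

/-- An involution gives a normal `p`-subgroup or is central. -/
theorem Rigid.involution {p : ℕ} [hp : Fact p.Prime] (M : Rigid.{u, v} p W) (hp2 : p ≠ 2) {z : W}
    (hz : orderOf z = 2) : (∃ X : Subgroup W, X.Normal ∧ X ≠ ⊥ ∧ IsPGroup p X) ∨ ∀ g : W, g * z = z * g := by
  have hzz : z * z = 1 := by rw [← pow_two, ← hz, pow_orderOf_eq_one]
  have hz1 : z ≠ 1 := fun e => by rw [e, orderOf_one] at hz; omega
  let K : Subgroup W :=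
    { carrier := {w | ∀ x : M.V, M.ρ w x * x⁻¹ ∈ M.Z}
      one_mem' := fun x => by simp
      mul_mem' := fun {a b} ha hb x => by
        have h1 := ha (M.ρ b x)
        have h2 := M.Z.mul_mem h1 (hb x)
        rwa [← mul_assoc, inv_mul_cancel_right, ← MulAut.mul_apply, ← map_mul] at h2
      inv_mem' := fun {a} ha x => by
        have h1 := M.Z.inv_mem (ha (M.ρ a⁻¹ x))
        rwa [← MulAut.mul_apply, ← map_mul, mul_inv_cancel, map_one, MulAut.one_apply, mul_inv_rev,
          inv_inv] at h1 }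
  have hgg : ∀ (g : W) (x : M.V), M.ρ g (M.ρ g⁻¹ x) = x := fun g x => by
    rw [← MulAut.mul_apply, ← map_mul, mul_inv_cancel, map_one, MulAut.one_apply]
  haveI hKn : K.Normal := ⟨fun a ha g x => by
    have h1 := M.fix_Z g _ (ha (M.ρ g⁻¹ x))
    rw [map_mul (M.ρ g), map_inv (M.ρ g), hgg] at h1
    rw [map_mul, map_mul, MulAut.mul_apply, MulAut.mul_apply, h1]
    exact ha (M.ρ g⁻¹ x)⟩
  have hKp : IsPGroup p K := by
    rintro ⟨k, hk⟩
    obtain ⟨j, hj⟩ := IsPGroup.iff_card.1 M.isP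
    refine ⟨j, Subtype.ext ?_⟩
    show k ^ p ^ j = 1
    by_contra hne
    refine M.ne_top (eq_top_iff.2 fun x _ => M.fix _ hne x ?_)
    have hpow : ∀ i : ℕ, M.ρ (k ^ i) x = x * (M.ρ k x * x⁻¹) ^ i := by
      intro i
      induction i with
      | zero => simp
      | succ i ih =>
        rw [pow_succ', map_mul, MulAut.mul_apply, ih, map_mul, map_pow, M.fix_Z k _ (hk x), pow_succ',
          ← mul_assoc, mul_comm x (M.ρ k x * x⁻¹), inv_mul_cancel_right]
    rw [hpow, ← hj, pow_card_eq_one', mul_one]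
  have hflip : ∀ x : M.V, M.ρ z x * x ∈ M.Z := fun x => M.fix z hz1 _ (by
    rw [map_mul, ← MulAut.mul_apply, ← map_mul, hzz, map_one, MulAut.one_apply, mul_comm])
  by_cases hK : K = ⊥
  · right
    intro g
    have hm : g * z * g⁻¹ * z ∈ K := by
      intro x
      have h1 : M.ρ g (M.ρ z (M.ρ g⁻¹ (M.ρ z x))) * M.ρ z x ∈ M.Z := by
        have h := M.fix_Z g _ (hflip (M.ρ g⁻¹ (M.ρ z x)))
        have h' := hflip (M.ρ g⁻¹ (M.ρ z x))
        rw [← h] at h'
        rwa [map_mul (M.ρ g), hgg] at h'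
      have h2 := M.Z.mul_mem h1 (M.Z.inv_mem (hflip x))
      rw [mul_inv_rev, ← mul_assoc, mul_assoc _ (M.ρ z x), mul_comm (M.ρ z x) x⁻¹, ← mul_assoc,
        mul_inv_cancel_right] at h2
      simpa only [map_mul, MulAut.mul_apply] using h2
    rw [hK, Subgroup.mem_bot] at hm
    have : g * z * g⁻¹ = z := by
      rw [eq_inv_of_mul_eq_one_left hm, inv_eq_of_mul_eq_one_right hzz]
    exact mul_inv_eq_iff_eq_mul.1 this
  · exact Or.inl ⟨K, hKn, hK, hKp⟩

/-- For a prime other than `p` the subgroup of that order in a Sylow subgroup is unique. -/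
theorem Rigid.unique {p l : ℕ} [hp : Fact p.Prime] [hl : Fact l.Prime] (hlp : l ≠ p)
    (M : Rigid.{u, v} p W) (L : Subgroup W) (hL : IsPGroup l L) :
    CfsgLib.Coprime.UniqueOrderP l L := by
  classical
  have key : ∀ a b : L, a ^ l = 1 → b ^ l = 1 → a ≠ 1 → Commute a b → b ∈ zpowers a := by
    intro a b ha hb ha1 hab
    by_contra hba
    haveI : NeZero l := ⟨hl.out.ne_zero⟩
    have hpow : ∀ (c : L), c ^ l = 1 → ∀ i j : ℕ, i ≡ j [MOD l] → c ^ i = c ^ j := fun c hc i j hij =>
      pow_eq_pow_iff_modEq.2 (hij.of_dvd (orderOf_dvd_of_pow_eq_one hc))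
    let ν : L → M.V → M.V := fun c x => ∏ i : ZMod l, M.ρ ((c ^ i.val : L) : W) x
    have hν : ∀ c : L, c ^ l = 1 → c ≠ 1 → ∀ x, ν c x ∈ M.Z := by
      intro c hc hc1 x
      refine M.fix (c : W) (fun e => hc1 (Subtype.ext e)) _ ?_
      rw [map_prod]
      refine Fintype.prod_equiv (Equiv.addLeft (1 : ZMod l)) _ _ fun i => ?_
      rw [Equiv.coe_addLeft, ← MulAut.mul_apply, ← map_mul, ← Subgroup.coe_mul, ← pow_succ',
        hpow c hc _ ((1 + i).val) ?_]
      rw [← ZMod.natCast_eq_natCast_iff, Nat.cast_succ, ZMod.natCast_zmod_val, ZMod.natCast_zmod_val,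
        add_comm]
    have hne : ∀ i : ZMod l, a ^ i.val * b ≠ 1 := fun i e => hba (by
      rw [eq_inv_of_mul_eq_one_right e]
      exact inv_mem (pow_mem (mem_zpowers a) _))
    have hlone : ∀ i : ZMod l, (a ^ i.val * b) ^ l = 1 := fun i => by
      rw [(hab.pow_left _).mul_pow, ← pow_mul, mul_comm, pow_mul, ha, one_pow, hb, one_mul]
    refine M.ne_top (eq_top_iff.2 fun x _ => ?_)
    have htot : ∏ i : ZMod l, ν (a ^ i.val * b) x ∈ M.Z :=
      prod_mem fun i _ => hν _ (hlone i) (hne i) x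
    have hsplit : ∏ i : ZMod l, ν (a ^ i.val * b) x =
        x ^ l * ∏ j ∈ (Finset.univ : Finset (ZMod l)).erase 0, M.ρ ((b ^ j.val : L) : W) (ν a x) := by
      show (∏ i : ZMod l, ∏ j : ZMod l, M.ρ (((a ^ i.val * b) ^ j.val : L) : W) x) = _
      rw [Finset.prod_comm, ← Finset.mul_prod_erase Finset.univ _ (Finset.mem_univ (0 : ZMod l))]
      congr 1
      · simp [ZMod.card]
      · refine Finset.prod_congr rfl fun j hj => ?_
        have hj0 : j ≠ 0 := (Finset.mem_erase.1 hj).1
        haveI : Fact l.Prime := hl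
        rw [map_prod]
        refine Fintype.prod_equiv (Equiv.mulRight₀ j hj0) _ _ fun i => ?_
        rw [← MulAut.mul_apply, ← map_mul, ← Subgroup.coe_mul, (hab.pow_left _).mul_pow, ← pow_mul,
          (hab.pow_pow _ _).eq, Equiv.mulRight₀_apply, hpow a ha _ ((i * j).val) ?_]
        rw [ZMod.val_mul]
        exact (Nat.mod_modEq _ _).symm
    have hrest : ∀ j : ZMod l, M.ρ ((b ^ j.val : L) : W) (ν a x) ∈ M.Z := fun j => by
      rw [M.fix_Z _ _ (hν a ha ha1 x)]
      exact hν a ha ha1 x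
    rw [hsplit] at htot
    have hxl : x ^ l ∈ M.Z := (M.Z.mul_mem_cancel_right (prod_mem fun j _ => hrest j)).1 htot
    obtain ⟨k, hk⟩ := M.isP x
    have hcop : Nat.Coprime l (orderOf x) :=
      Nat.Coprime.coprime_dvd_right (orderOf_dvd_of_pow_eq_one hk)
        (((Nat.coprime_primes hl.out hp.out).2 hlp).pow_right k)
    obtain ⟨m, hm⟩ := exists_pow_eq_self_of_coprime hcop
    rw [← hm]
    exact pow_mem hxl m
  intro x y hx hy hx1
  haveI : Nontrivial L := ⟨⟨x, 1, hx1⟩⟩
  haveI := hL.center_nontrivial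
  obtain ⟨k, hk0, hk⟩ : ∃ k > 0, Nat.card (center L) = l ^ k := (hL.to_subgroup (center L)).nontrivial_iff_card.1 inferInstance
  obtain ⟨⟨z, hzc⟩, hz⟩ := exists_prime_orderOf_dvd_card' (G := center L) l (hk ▸ dvd_pow_self l (by omega))
  rw [Subgroup.orderOf_mk] at hz
  have hzl : z ^ l = 1 := hz ▸ pow_orderOf_eq_one z
  have hz1 : z ≠ 1 := fun e => hl.out.ne_one (by rw [← hz, e, orderOf_one])
  have hc : ∀ w : L, Commute z w := fun w => (mem_center_iff.1 hzc w).symm
  have hxz : x ∈ zpowers z := key z x hzl hx hz1 (hc x)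
  have e : zpowers x = zpowers z := Subgroup.eq_of_le_of_card_ge (zpowers_le.2 hxz)
    (by rw [Nat.card_zpowers, Nat.card_zpowers, hz, orderOf_eq_prime hx hx1])
  rw [e]
  exact key z y hzl hy hz1 (hc y)

/-- The order is not divisible by two such primes. -/
theorem false_of_two_rigid {p q : ℕ} [hp : Fact p.Prime] [hq : Fact q.Prime] (hpq : p ≠ q)
    (M : Rigid.{u, v} p W) (M' : Rigid.{u, v} q W) (hpW : p ∣ Nat.card W) (hqW : q ∣ Nat.card W) : False := by
  by_cases h2 : 2 ∣ Nat.card W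
  · have main : ∀ {p q : ℕ}, [Fact p.Prime] → [Fact q.Prime] → p ≠ q → p ≠ 2 → Rigid.{u, v} p W →
        Rigid.{u, v} q W → p ∣ Nat.card W → q ∣ Nat.card W → False := by
      intro p q hp hq hpq hp2 M M' hpW hqW
      haveI : Fact (Nat.Prime 2) := ⟨Nat.prime_two⟩
      obtain ⟨z, hz⟩ := exists_prime_orderOf_dvd_card' 2 h2
      rcases M.involution hp2 hz with ⟨X, hXn, hX1, hXp⟩ | hc
      · haveI := hXn
        obtain ⟨k, hk⟩ := IsPGroup.iff_card.1 hXp
        exact hpq.symm ((Nat.prime_dvd_prime_iff_eq hq.out hp.out).1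
          (hq.out.dvd_of_dvd_pow (hk ▸ M'.dvd_normal hqW hX1)))
      · haveI : (zpowers z).Normal := ⟨by
          rintro _ ⟨i, rfl⟩ g
          have hcc : Commute g (z ^ i) := (show Commute g z from hc g).zpow_right i
          show g * z ^ i * g⁻¹ ∈ zpowers z
          rw [hcc.eq, mul_inv_cancel_right]
          exact ⟨i, rfl⟩⟩
        have h := M.dvd_normal hpW (X := zpowers z) (fun e => by
          rw [zpowers_eq_bot] at e; rw [e, orderOf_one] at hz; omega)
        rw [Nat.card_zpowers, hz] at h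
        exact hp2 ((Nat.prime_dvd_prime_iff_eq hp.out Nat.prime_two).1 h)
    by_cases hp2 : p = 2
    · exact main hpq.symm (fun e => hpq (hp2.trans e.symm)) M' M hqW hpW
    · exact main hpq hp2 M M' hpW hqW
  · haveI : IsZGroup W := ⟨fun l hl L => by
      haveI : Fact l.Prime := ⟨hl⟩
      by_cases hl2 : l = 2
      · subst hl2
        obtain ⟨k, hk⟩ := IsPGroup.iff_card.1 L.isPGroup'
        have hk0 : k = 0 := by
          by_contra h
          exact h2 ((dvd_pow_self 2 h).trans (hk ▸ Subgroup.card_subgroup_dvd_card _))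
        haveI := (Nat.card_eq_one_iff_unique.1 (hk.trans (by rw [hk0, pow_zero]))).1
        exact isCyclic_of_subsingleton
      · by_cases hlp : l = p
        · exact CfsgLib.Coprime.isCyclic_of_unique_odd hl2 L.isPGroup'
            (M'.unique (by rintro rfl; exact hpq hlp.symm) _ L.isPGroup')
        · exact CfsgLib.Coprime.isCyclic_of_unique_odd hl2 L.isPGroup' (M.unique hlp _ L.isPGroup')⟩
    obtain ⟨n, hn⟩ := (Group.isSolvable_def W).1 inferInstance
    have hW : (⊤ : Subgroup W) ≠ ⊥ := fun e => by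
      have : Nat.card W = 1 := by rw [← Subgroup.card_top, e, Subgroup.card_bot]
      rw [this] at hpW
      exact hp.out.one_lt.not_ge (Nat.le_of_dvd Nat.one_pos hpW)
    classical
    have hex : ∃ n, derivedSeries W n = ⊥ := ⟨n, hn⟩
    obtain ⟨m, hm⟩ : ∃ m, Nat.find hex = m + 1 :=
      Nat.exists_eq_succ_of_ne_zero fun e => hW (by
        have h := Nat.find_spec hex
        rwa [e, derivedSeries_zero] at h)
    have hB1 : derivedSeries W m ≠ ⊥ := Nat.find_min hex (by omega)
    have hBc : derivedSeries W (m + 1) = ⊥ := hm ▸ Nat.find_spec hex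
    rw [derivedSeries_succ, Subgroup.commutator_eq_bot_iff_le_centralizer] at hBc
    haveI := derivedSeries_normal W m
    obtain ⟨a, ha⟩ := exists_prime_orderOf_dvd_card' p (M.dvd_normal hpW hB1)
    obtain ⟨b, hb⟩ := exists_prime_orderOf_dvd_card' q (M'.dvd_normal hqW hB1)
    refine M'.not_normalizes (X := zpowers (a : W)) (fun e => ?_) ?_ (u := (b : W))
      (by rw [Subgroup.orderOf_coe, hb]) ?_
    · rw [zpowers_eq_bot] at e
      rw [← Subgroup.orderOf_coe, e, orderOf_one] at ha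
      exact hp.out.ne_one ha.symm
    · rw [Nat.card_zpowers, Subgroup.orderOf_coe, ha]
      exact fun h => hpq ((Nat.prime_dvd_prime_iff_eq hq.out hp.out).1 h).symm
    · have hc : Commute (b : W) (a : W) := (mem_centralizer_iff.1 (hBc b.2) _ a.2).symm
      rw [mem_normalizer_iff]
      intro y
      constructor
      · rintro ⟨i, rfl⟩
        exact ⟨i, by simp only; rw [(hc.zpow_right i).eq, mul_inv_cancel_right]⟩
      · rintro ⟨i, hi⟩
        refine ⟨i, ?_⟩
        simp only at hi ⊢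
        apply mul_left_cancel (a := (b : W))
        apply mul_right_cancel (b := (b : W)⁻¹)
        rw [← hi, (hc.zpow_right i).eq, mul_inv_cancel_right]

end CfsgLib.PGroup.TwoClassSizes
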