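/-
A normal subgroup with two class sizes in the whole group that contains a noncentral Sylow subgroup is nilpotent.
-/
import Mathlib.GroupTheory.Nilpotent
import Cfsg.Agent.Lib.PGroup.TwoClassSizes.Rigid
import Cfsg.Agent.Lib.PGroup.JordanCover
import Cfsg.Agent.Lib.PGroup.Basic
import Cfsg.Agent.Lib.Invol.BGroup
import Cfsg.Agent.Lib.Fusion.Thompson

set_option autoImplicit false

namespace CfsgLib.PGroup.TwoClassSizes

universe u

open Subgroup

variable {G : Type u} [Group G] [Finite G]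

theorem index_one_iff (x : G) : (centralizer ({x} : Set G)).index = 1 ↔ x ∈ center G := by
  rw [index_eq_one, eq_top_iff]
  constructor
  · exact fun h => mem_center_iff.2 fun g => mem_centralizer_singleton_iff.1 (h (mem_top g))
  · exact fun h g _ => mem_centralizer_singleton_iff.2 (mem_center_iff.1 h g)

/-- `g` is the product of a `p`-power and a power of order prime to `p`. -/
theorem exists_parts (p : ℕ) [hp : Fact p.Prime] (g : G) :
    ∃ a b : G, a ∈ zpowers g ∧ b ∈ zpowers g ∧ g = a * b ∧ (∃ k, a ^ p ^ k = 1) ∧ ¬ p ∣ orderOf b := by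
  obtain ⟨k, n', hn', hk⟩ := Nat.exists_eq_pow_mul_and_not_dvd (orderOf_pos g).ne' p hp.out.ne_one
  have hcop : Nat.gcd (p ^ k) n' = 1 :=
    ((hp.out.coprime_iff_not_dvd).2 hn').pow_left k
  have hbez := Nat.gcd_eq_gcd_ab (p ^ k) n'
  rw [hcop] at hbez
  have hz : g ^ ((p ^ k : ℕ) * (n' : ℤ)) = 1 := by
    rw [← Nat.cast_mul, zpow_natCast, ← hk, pow_orderOf_eq_one]
  refine ⟨g ^ ((n' : ℤ) * Nat.gcdB (p ^ k) n'), g ^ (((p ^ k : ℕ) : ℤ) * Nat.gcdA (p ^ k) n'),
    zpow_mem (mem_zpowers g) _, zpow_mem (mem_zpowers g) _, ?_, ⟨k, ?_⟩, ?_⟩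
  · rw [← zpow_add, add_comm, ← hbez, Nat.cast_one, zpow_one]
  · rw [← zpow_natCast, ← zpow_mul, show (n' : ℤ) * Nat.gcdB (p ^ k) n' * ((p ^ k : ℕ) : ℤ) =
      (p ^ k : ℕ) * (n' : ℤ) * Nat.gcdB (p ^ k) n' by ring, zpow_mul, hz, one_zpow]
  · intro h
    refine hn' (h.trans (orderOf_dvd_of_pow_eq_one ?_))
    rw [← zpow_natCast, ← zpow_mul, show ((p ^ k : ℕ) : ℤ) * Nat.gcdA (p ^ k) n' * (n' : ℤ) =
      (p ^ k : ℕ) * (n' : ℤ) * Nat.gcdA (p ^ k) n' by ring, zpow_mul, hz, one_zpow]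

/-- The setting. -/
structure Hyp (G : Type u) [Group G] [Finite G] where
  r : ℕ
  rp : Fact r.Prime
  R : Sylow r G
  hR : ¬ (R : Subgroup G) ≤ center G
  N : Subgroup G
  normal : N.Normal
  hRN : (R : Subgroup G) ≤ N
  m : ℕ
  size : ∀ x ∈ N, (centralizer ({x} : Set G)).index = 1 ∨ (centralizer ({x} : Set G)).index = m

namespace Hyp

variable (H : Hyp G)

theorem index_eq {x : G} (hx : x ∈ H.N) (hc : x ∉ center G) : (centralizer ({x} : Set G)).index = H.m :=
  (H.size x hx).resolve_left fun h => hc ((index_one_iff x).1 h)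

theorem card_eq {x y : G} (hx : x ∈ H.N) (hxc : x ∉ center G) (hy : y ∈ H.N) (hyc : y ∉ center G) :
    Nat.card (centralizer ({x} : Set G)) = Nat.card (centralizer ({y} : Set G)) := by
  have h1 := Subgroup.index_mul_card (centralizer ({x} : Set G))
  have h2 := Subgroup.index_mul_card (centralizer ({y} : Set G))
  rw [H.index_eq hx hxc] at h1
  rw [H.index_eq hy hyc, ← h1] at h2
  exact (Nat.eq_of_mul_eq_mul_left (Nat.pos_of_ne_zero fun e => by
    rw [e, zero_mul] at h1; exact (Nat.card_pos (α := G)).ne' h1.symm) h2).symm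

/-- Commuting noncentral elements of coprime order have the same centraliser. -/
theorem centralizer_eq {a b : G} (ha : a ∈ H.N) (hac : a ∉ center G) (hb : b ∈ H.N) (hbc : b ∉ center G)
    (hab : Commute a b) (hcop : (orderOf a).Coprime (orderOf b)) :
    centralizer ({a} : Set G) = centralizer ({b} : Set G) := by
  have hpow : ∀ {a b : G}, Commute a b → (orderOf a).Coprime (orderOf b) → a ∈ zpowers (a * b) := by
    intro a b hab hcop
    obtain ⟨j, hj⟩ := exists_pow_eq_self_of_coprime (x := a) hcop.symm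
    have h1 : (a * b) ^ orderOf b = a ^ orderOf b := by rw [hab.mul_pow, pow_orderOf_eq_one, mul_one]
    have h2 : a ^ orderOf b ∈ zpowers (a * b) := by
      rw [← h1]
      exact pow_mem (mem_zpowers (a * b)) _
    have h3 := pow_mem h2 j
    rwa [hj] at h3
  have hle : ∀ {a b : G}, a ∈ zpowers (a * b) →
      centralizer ({a * b} : Set G) ≤ centralizer ({a} : Set G) := by
    intro a b h g hg
    obtain ⟨i, hi⟩ := h
    have h1 : Commute g (a * b) := mem_centralizer_singleton_iff.1 hg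
    refine mem_centralizer_singleton_iff.2 ?_
    simp only at hi
    rw [← hi]
    exact (h1.zpow_right i).eq
  have habc : a * b ∉ center G := fun h => hac (zpowers_le.2 h (hpow hab hcop))
  have hN := mul_mem ha hb
  have e1 := Subgroup.eq_of_le_of_card_ge (hle (hpow hab hcop)) (H.card_eq ha hac hN habc).le
  have hle' : centralizer ({a * b} : Set G) ≤ centralizer ({b} : Set G) := by
    rw [hab.eq]; exact hle (hpow hab.symm hcop.symm)
  have e2 := Subgroup.eq_of_le_of_card_ge hle' (H.card_eq hb hbc hN habc).le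
  exact e1.symm.trans e2

/-- If a noncentral element commutes with a Sylow `p`-subgroup, its part in `N` is central in `N`. -/
theorem sylow_inf_central {p : ℕ} [Fact p.Prime] (P : Sylow p G) {x : G} (hx : x ∈ H.N) (hxc : x ∉ center G)
    (hP : (P : Subgroup G) ≤ centralizer ({x} : Set G)) :
    ∀ a ∈ P, a ∈ H.N → ∀ n ∈ H.N, Commute n a := by
  haveI := H.normal
  obtain ⟨T, hTP, hTN, hT⟩ := CfsgLib.Invol.exists_le_sylow_inf H.N P
  have hTeq : ∀ P' : Sylow p G, ∀ T' : Subgroup G, T' ≤ (P' : Subgroup G) → T' ≤ H.N →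
      Nat.card T' = p ^ (Nat.card H.N).factorization p → T' = (P' : Subgroup G) ⊓ H.N := by
    intro P' T' h1 h2 h3
    refine Subgroup.eq_of_le_of_card_ge (le_inf h1 h2) ?_
    rw [h3]
    have hp' : IsPGroup p ↥((P' : Subgroup G) ⊓ H.N) := P'.isPGroup'.to_le inf_le_left
    obtain ⟨j, hj⟩ := IsPGroup.iff_card.1 hp'
    rw [hj]
    refine Nat.pow_le_pow_right (Fact.out : p.Prime).pos ?_
    exact ((Fact.out : p.Prime).pow_dvd_iff_le_factorization Nat.card_pos.ne').1
      (hj ▸ Subgroup.card_dvd_of_le inf_le_right)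
  let M : Subgroup H.N := (centralizer (((P : Subgroup G) ⊓ H.N : Subgroup G) : Set G)).subgroupOf H.N
  have hM : M = ⊤ := by
    refine CfsgLib.PGroup.eq_top_of_forall_conj_mem M fun n => ?_
    obtain ⟨P', hP'⟩ : ∃ P' : Sylow p G, (P' : Subgroup G) ≤ centralizer ({(n : G)} : Set G) := by
      by_cases hn : (n : G) ∈ center G
      · exact ⟨P, fun g _ => mem_centralizer_singleton_iff.2 (mem_center_iff.1 hn g)⟩
      · have hd : p ^ (Nat.card G).factorization p ∣ Nat.card (centralizer ({(n : G)} : Set G)) := by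
          rw [H.card_eq n.2 hn hx hxc, ← P.card_eq_multiplicity]
          exact Subgroup.card_dvd_of_le hP
        obtain ⟨K, hK⟩ := Sylow.exists_subgroup_card_pow_prime p hd
        refine ⟨Sylow.ofCard (K.map (centralizer ({(n : G)} : Set G)).subtype) ?_, ?_⟩
        · rw [Subgroup.card_map_of_injective (Subgroup.subtype_injective _), hK]
        · exact Subgroup.map_subtype_le K
    -- the two intersections are Sylow subgroups of `N`
    obtain ⟨T', hT'P, hT'N, hT'⟩ := CfsgLib.Invol.exists_le_sylow_inf H.N P'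
    have eT := hTeq P T hTP hTN hT
    have eT' := hTeq P' T' hT'P hT'N hT'
    have c1 : Nat.card (T.subgroupOf H.N) = p ^ (Nat.card H.N).factorization p :=
      (Nat.card_congr (subgroupOfEquivOfLe hTN).toEquiv).trans hT
    have c2 : Nat.card (T'.subgroupOf H.N) = p ^ (Nat.card H.N).factorization p :=
      (Nat.card_congr (subgroupOfEquivOfLe hT'N).toEquiv).trans hT'
    obtain ⟨c, hc⟩ := MulAction.exists_smul_eq H.N (Sylow.ofCard _ c1) (Sylow.ofCard _ c2)
    refine ⟨c, mem_subgroupOf.2 (mem_centralizer_iff.2 fun a ha => ?_)⟩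
    rw [← eT] at ha
    have hca : c * ⟨a, hTN ha⟩ * c⁻¹ ∈ ((Sylow.ofCard _ c2 : Sylow p H.N) : Subgroup H.N) := by
      rw [← hc]
      exact smul_mem_pointwise_smul _ (MulAut.conj c) _ (show (⟨a, hTN ha⟩ : H.N) ∈ T.subgroupOf H.N from ha)
    have hmem : ((c * ⟨a, hTN ha⟩ * c⁻¹ : H.N) : G) ∈ T' := hca
    have hcomm : (c * ⟨a, hTN ha⟩ * c⁻¹) * n = n * (c * ⟨a, hTN ha⟩ * c⁻¹) :=
      Subtype.ext (mem_centralizer_singleton_iff.1 (hP' (hT'P hmem)))
    have : (⟨a, hTN ha⟩ : H.N) * (c⁻¹ * n * c) = (c⁻¹ * n * c) * ⟨a, hTN ha⟩ := by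
      calc (⟨a, hTN ha⟩ : H.N) * (c⁻¹ * n * c) = c⁻¹ * ((c * ⟨a, hTN ha⟩ * c⁻¹) * n) * c := by group
        _ = c⁻¹ * (n * (c * ⟨a, hTN ha⟩ * c⁻¹)) * c := by rw [hcomm]
        _ = _ := by group
    exact congrArg Subtype.val this
  intro a haP haN n hn
  exact ((mem_centralizer_iff.1 ((eq_top_iff.1 hM) (mem_top (⟨n, hn⟩ : H.N)))) a ⟨haP, haN⟩).symm

instance factR : Fact H.r.Prime := H.rp

/-- Every `r`-element lies in `N`. -/
theorem mem_of_rElement {x : G} (hx : ∃ k, x ^ H.r ^ k = 1) : x ∈ H.N := by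
  obtain ⟨k, hk⟩ := hx
  obtain ⟨i, -, hi⟩ := (Nat.dvd_prime_pow H.rp.out).1 (orderOf_dvd_of_pow_eq_one hk)
  obtain ⟨Q, hQ⟩ := (IsPGroup.of_card (p := H.r) (n := i) (by rw [Nat.card_zpowers, hi]) :
    IsPGroup H.r (zpowers x)).exists_le_sylow
  obtain ⟨g, hg⟩ := MulAction.exists_smul_eq G H.R Q
  have h := hQ (mem_zpowers x)
  rw [← hg] at h
  obtain ⟨y, hy, rfl⟩ := h
  exact H.normal.conj_mem _ (H.hRN hy) g

theorem rElement_central_of {x : G} (hx : x ∈ H.N) (hxc : x ∉ center G) {P : Sylow H.r G}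
    (hP : (P : Subgroup G) ≤ centralizer ({x} : Set G)) : IsMulCommutative H.N := by
  have hcen : ∀ a, (∃ k, a ^ H.r ^ k = 1) → ∀ n ∈ H.N, Commute n a := by
    intro a ha n hn
    have haN := H.mem_of_rElement ha
    obtain ⟨k, hk⟩ := ha
    obtain ⟨i, -, hi⟩ := (Nat.dvd_prime_pow H.rp.out).1 (orderOf_dvd_of_pow_eq_one hk)
    obtain ⟨Q, hQ⟩ := (IsPGroup.of_card (p := H.r) (n := i) (by rw [Nat.card_zpowers, hi]) :
      IsPGroup H.r (zpowers a)).exists_le_sylow
    obtain ⟨g, hg⟩ := MulAction.exists_smul_eq G P Q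
    have h := hQ (mem_zpowers a)
    rw [← hg] at h
    obtain ⟨y, hy, rfl⟩ := h
    haveI := H.normal
    have hyN : y ∈ H.N := by
      have := H.normal.conj_mem _ haN g⁻¹
      simpa [mul_assoc] using this
    have := H.sylow_inf_central P hx hxc hP y hy hyN (g⁻¹ * n * g) (by simpa using H.normal.conj_mem n hn g⁻¹)
    calc n * (g * y * g⁻¹) = g * ((g⁻¹ * n * g) * y) * g⁻¹ := by group
      _ = g * (y * (g⁻¹ * n * g)) * g⁻¹ := by rw [this.eq]
      _ = g * y * g⁻¹ * n := by group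
  obtain ⟨x0, hx0, hx0c⟩ := SetLike.not_le_iff_exists.1 H.hR
  obtain ⟨j, hj⟩ := H.R.isPGroup' ⟨x0, hx0⟩
  have hx0p : ∃ k, x0 ^ H.r ^ k = 1 := ⟨j, congrArg Subtype.val hj⟩
  refine ⟨⟨fun n k => Subtype.ext ?_⟩⟩
  show (n : G) * k = k * n
  obtain ⟨a, b, haz, hbz, hab, hap, hbp⟩ := exists_parts H.r (n : G)
  have hbN : b ∈ H.N := zpowers_le.2 n.2 hbz
  have hbk : Commute b k := by
    by_cases hbc : b ∈ center G
    · exact (mem_center_iff.1 hbc k).symm
    · have hx0b : Commute x0 b := (hcen x0 hx0p b hbN).symm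
      have hcop : (orderOf x0).Coprime (orderOf b) :=
        Nat.Coprime.coprime_dvd_left (orderOf_dvd_of_pow_eq_one hx0p.choose_spec)
          (((H.rp.out.coprime_iff_not_dvd).2 hbp).pow_left _)
      have e := H.centralizer_eq (H.mem_of_rElement hx0p) hx0c hbN hbc hx0b hcop
      have hk : (k : G) ∈ centralizer ({x0} : Set G) := mem_centralizer_singleton_iff.2 (hcen x0 hx0p k k.2).eq
      rw [e] at hk
      exact (mem_centralizer_singleton_iff.1 hk).symm
  rw [hab]
  exact ((hcen a hap k k.2).symm.mul_left hbk).eq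

end Hyp

/-- The `p`-elements of an abelian subgroup. -/
def primary (p : ℕ) (D : Subgroup G) (hD : ∀ a ∈ D, ∀ b ∈ D, Commute a b) : Subgroup G where
  carrier := {d | d ∈ D ∧ ∃ k, d ^ p ^ k = 1}
  one_mem' := ⟨one_mem _, 0, one_pow _⟩
  mul_mem' := fun {a b} ⟨ha, i, hi⟩ ⟨hb, j, hj⟩ => ⟨mul_mem ha hb, i + j, by
    rw [(hD a ha b hb).mul_pow, pow_add, pow_mul, hi, one_pow, one_mul, mul_comm, pow_mul, hj, one_pow]⟩
  inv_mem' := fun {a} ⟨ha, i, hi⟩ => ⟨inv_mem ha, i, by rw [inv_pow, hi, inv_one]⟩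

/-- Conjugation on a subgroup by its normaliser's elements. -/
def conjOn (V : Subgroup G) (M : Subgroup G) (h : ∀ g ∈ M, ∀ v ∈ V, g * v * g⁻¹ ∈ V) : M →* MulAut V where
  toFun g :=
    { toFun := fun v => ⟨(g : G) * v * (g : G)⁻¹, h g g.2 v v.2⟩
      invFun := fun v => ⟨(g : G)⁻¹ * v * (g : G), by simpa using h _ (inv_mem g.2) v v.2⟩
      left_inv := fun v => Subtype.ext (by simp [mul_assoc])
      right_inv := fun v => Subtype.ext (by simp [mul_assoc])
      map_mul' := fun v w => Subtype.ext (by simp [mul_assoc]) }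
  map_one' := MulEquiv.ext fun v => Subtype.ext (by simp)
  map_mul' g k := MulEquiv.ext fun v => Subtype.ext (by simp [mul_assoc])

namespace Hyp

variable (H : Hyp G)

/-- In the second case every element of order prime to `r` is central. -/
theorem rPrime_central (hcase : ∀ x ∈ H.N, x ∉ center G → ∀ P : Sylow H.r G,
    ¬ (P : Subgroup G) ≤ centralizer ({x} : Set G)) {q : ℕ} [hq : Fact q.Prime] (hqr : q ≠ H.r) {w : G}
    (hwN : w ∈ H.N) (hwp : ∃ k, w ^ q ^ k = 1) : w ∈ center G := by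
  haveI hNn := H.normal
  by_contra hwc
  have hwq : ∀ {y : G}, (∃ k, y ^ H.r ^ k = 1) → (orderOf y).Coprime (orderOf w) := fun {y} hy => by
    obtain ⟨i, hi⟩ := hy
    obtain ⟨j, hj⟩ := hwp
    exact Nat.Coprime.coprime_dvd_left (orderOf_dvd_of_pow_eq_one hi) (Nat.Coprime.coprime_dvd_right
      (orderOf_dvd_of_pow_eq_one hj) (((Nat.coprime_primes H.rp.out hq.out).2 hqr.symm).pow i j))
  -- a noncentral `r`-element commuting with `w`
  obtain ⟨x, hxw, hxp, hxc⟩ : ∃ x, Commute x w ∧ (∃ k, x ^ H.r ^ k = 1) ∧ x ∉ center G := by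
    by_contra hcon
    push Not at hcon
    obtain ⟨x0, hx0, hx0c⟩ := SetLike.not_le_iff_exists.1 H.hR
    obtain ⟨S⟩ : Nonempty (Sylow H.r (centralizer ({w} : Set G))) := inferInstance
    let S' := (S : Subgroup (centralizer ({w} : Set G))).map (centralizer ({w} : Set G)).subtype
    have hS'c : S' ≤ center G := by
      rintro _ ⟨s, hs, rfl⟩
      obtain ⟨j, hj⟩ := S.isPGroup' ⟨s, hs⟩
      exact hcon s (mem_centralizer_singleton_iff.1 s.2)
        ⟨j, congrArg (fun t : (S : Subgroup (centralizer ({w} : Set G))) => ((t : centralizer ({w} : Set G)) : G)) hj⟩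
    haveI hSn : S'.Normal := ⟨fun s hs g => by
      rwa [mem_center_iff.1 (hS'c hs) g, mul_inv_cancel_right]⟩
    have hS'p : IsPGroup H.r S' := S.isPGroup'.map _
    have hzp : IsPGroup H.r (zpowers x0) := H.R.isPGroup'.to_le (zpowers_le.2 hx0)
    have hJ := hS'p.to_sup_of_normal_left hzp
    have hJle : S' ⊔ zpowers x0 ≤ centralizer ({x0} : Set G) :=
      sup_le (fun s hs => mem_centralizer_singleton_iff.2 (mem_center_iff.1 (hS'c hs) x0).symm)
        (zpowers_le.2 (mem_centralizer_singleton_iff.2 rfl))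
    have hlt : Nat.card S' < Nat.card ↥(S' ⊔ zpowers x0) := by
      refine lt_of_le_of_ne (Subgroup.card_le_of_le le_sup_left) fun e => hx0c (hS'c ?_)
      rw [Subgroup.eq_of_le_of_card_ge le_sup_left e.ge]
      exact mem_sup_right (mem_zpowers x0)
    obtain ⟨j, hj⟩ := IsPGroup.iff_card.1 hJ
    have hd : H.r ^ j ∣ Nat.card (centralizer ({w} : Set G)) := by
      rw [H.card_eq hwN hwc (H.hRN hx0) hx0c, ← hj]
      exact Subgroup.card_dvd_of_le hJle
    rw [hj, show Nat.card S' = Nat.card (S : Subgroup (centralizer ({w} : Set G))) from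
      Subgroup.card_map_of_injective (Subgroup.subtype_injective _), S.card_eq_multiplicity] at hlt
    exact absurd hlt (not_lt.2 (Nat.pow_le_pow_right H.rp.out.pos
      ((H.rp.out.pow_dvd_iff_le_factorization Nat.card_pos.ne').1 hd)))
  have hxN := H.mem_of_rElement hxp
  have hCx := H.centralizer_eq hxN hxc hwN hwc hxw (hwq hxp)
  obtain ⟨D, hDdef⟩ : ∃ D, D = H.N ⊓ centralizer ({w} : Set G) := ⟨_, rfl⟩
  have hmemD : ∀ {d}, d ∈ D ↔ d ∈ H.N ∧ Commute d w := fun {d} => by
    rw [hDdef, mem_inf]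
    exact and_congr Iff.rfl mem_centralizer_singleton_iff
  -- noncentral elements of `D` share the centraliser
  have hCd : ∀ d ∈ D, d ∉ center G → centralizer ({d} : Set G) = centralizer ({w} : Set G) := by
    intro d hd hdc
    obtain ⟨hdN, hdw⟩ := hmemD.1 hd
    obtain ⟨a, b, ⟨i, hi⟩, ⟨j, hj⟩, hab, hap, hbp⟩ := exists_parts H.r d
    simp only at hi hj
    have haw : Commute a w := hi ▸ hdw.zpow_left i
    have hbw : Commute b w := hj ▸ hdw.zpow_left j
    have haN : a ∈ H.N := hi ▸ zpow_mem hdN i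
    have hbN : b ∈ H.N := hj ▸ zpow_mem hdN j
    have hA : a ∈ center G ∨ centralizer ({a} : Set G) = centralizer ({w} : Set G) :=
      or_iff_not_imp_left.2 fun hac => H.centralizer_eq haN hac hwN hwc haw (hwq hap)
    have hB : b ∈ center G ∨ centralizer ({b} : Set G) = centralizer ({w} : Set G) := by
      refine or_iff_not_imp_left.2 fun hbc => ?_
      have hbx : Commute x b := by
        have : b ∈ centralizer ({w} : Set G) := mem_centralizer_singleton_iff.2 hbw.eq
        rw [← hCx] at this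
        exact (mem_centralizer_singleton_iff.1 this).symm
      rw [← hCx]
      refine (H.centralizer_eq hxN hxc hbN hbc hbx ?_).symm
      obtain ⟨k, hk⟩ := hxp
      exact Nat.Coprime.coprime_dvd_left (orderOf_dvd_of_pow_eq_one hk)
        (((H.rp.out.coprime_iff_not_dvd).2 hbp).pow_left _)
    refine (Subgroup.eq_of_le_of_card_ge (fun g hg => ?_) (H.card_eq hdN hdc hwN hwc).le).symm
    rw [mem_centralizer_singleton_iff]
    have ga : Commute g a := by
      rcases hA with h | h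
      · exact mem_center_iff.1 h g
      · rw [← h] at hg; exact mem_centralizer_singleton_iff.1 hg
    have gb : Commute g b := by
      rcases hB with h | h
      · exact mem_center_iff.1 h g
      · rw [← h] at hg; exact mem_centralizer_singleton_iff.1 hg
    rw [hab]
    exact (ga.mul_right gb).eq
  have hDab : ∀ a ∈ D, ∀ b ∈ D, Commute a b := by
    intro a ha b hb
    by_cases hac : a ∈ center G
    · exact (mem_center_iff.1 hac b).symm
    · have h : b ∈ centralizer ({w} : Set G) := mem_centralizer_singleton_iff.2 (hmemD.1 hb).2.eq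
      rw [← hCd a ha hac] at h
      exact (mem_centralizer_singleton_iff.1 h).symm
  have hcommD : ∀ {d n : G}, d ∈ D → d ∉ center G → n ∈ H.N → Commute n d → n ∈ D := fun hd hdc hn hc =>
    hmemD.2 ⟨hn, mem_centralizer_singleton_iff.1 (hCd _ hd hdc ▸ mem_centralizer_singleton_iff.2 hc.eq)⟩
  -- an element moving a noncentral element of `D` into `D` normalises `D`
  have hnorm : ∀ g d : G, d ∈ D → d ∉ center G → g * d * g⁻¹ ∈ D → g ∈ normalizer (D : Set G) := by
    intro g d hd hdc hgd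
    have hgdc : g * d * g⁻¹ ∉ center G := fun h => hdc (by
      have := (Subgroup.instNormalCenter (G := G)).conj_mem _ h g⁻¹
      simpa [mul_assoc] using this)
    rw [mem_normalizer_iff]
    intro y
    have key : Commute y d ↔ Commute (g * y * g⁻¹) (g * d * g⁻¹) :=
      (Commute.map · (MulAut.conj g)) |> fun h => ⟨h, fun h' => by
        have := h'.map (MulAut.conj g⁻¹)
        simpa [mul_assoc] using this⟩
    have e1 : ∀ z, Commute z d ↔ Commute z w := fun z => by
      show _ = _ ↔ _ = _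
      rw [← mem_centralizer_singleton_iff, hCd d hd hdc, mem_centralizer_singleton_iff]
    have e2 : ∀ z, Commute z (g * d * g⁻¹) ↔ Commute z w := fun z => by
      show _ = _ ↔ _ = _
      rw [← mem_centralizer_singleton_iff, hCd _ hgd hgdc, mem_centralizer_singleton_iff]
    rw [hmemD, hmemD, ← e1 y, key, e2]
    exact and_congr ⟨fun h => hNn.conj_mem y h g, fun h => by simpa [mul_assoc] using hNn.conj_mem _ h g⁻¹⟩ Iff.rfl
  -- Sylow subgroups not inside `D` give elements normalising it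
  have hgrow : ∀ {p : ℕ}, [Fact p.Prime] → ∀ (P : Sylow p G) {d : G}, d ∈ P → d ∈ D → d ∉ center G →
      ¬ ((P : Subgroup G) ⊓ H.N ≤ D) →
      ∃ n, n ∈ H.N ∧ n ∈ normalizer (D : Set G) ∧ n ∉ D ∧ ∃ k, n ^ p ^ k = 1 := by
    intro p _ P d hdP hdD hdc hle
    have hPp : IsPGroup p ↥((P : Subgroup G) ⊓ H.N) := P.isPGroup'.to_le inf_le_left
    haveI := hPp.isNilpotent
    have hlt := CfsgLib.Fusion.lt_inf_normalizer (P := (P : Subgroup G) ⊓ H.N)
      (T := ((P : Subgroup G) ⊓ H.N) ⊓ D) inf_le_left fun e => hle (e ▸ inf_le_right)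
    obtain ⟨n, hn, hnT⟩ := SetLike.exists_of_lt hlt
    obtain ⟨hnPN, hnn⟩ := hn
    refine ⟨n, hnPN.2, hnorm n d hdD hdc ?_, fun h => hnT ⟨hnPN, h⟩, ?_⟩
    · exact ((mem_normalizer_iff.1 hnn d).1 ⟨⟨hdP, (hmemD.1 hdD).1⟩, hdD⟩).2
    · obtain ⟨k, hk⟩ := hPp ⟨n, hnPN⟩
      exact ⟨k, congrArg Subtype.val hk⟩
  have hxD : x ∈ D := hmemD.2 ⟨hxN, hxw⟩
  have hwD : w ∈ D := hmemD.2 ⟨hwN, Commute.refl w⟩
  obtain ⟨t, htN, htn, htD, htp⟩ : ∃ n, n ∈ H.N ∧ n ∈ normalizer (D : Set G) ∧ n ∉ D ∧ ∃ k, n ^ H.r ^ k = 1 := by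
    obtain ⟨i, hi⟩ := hxp
    obtain ⟨k, -, hk⟩ := (Nat.dvd_prime_pow H.rp.out).1 (orderOf_dvd_of_pow_eq_one hi)
    obtain ⟨P, hP⟩ := (IsPGroup.of_card (p := H.r) (n := k) (by rw [Nat.card_zpowers, hk]) :
      IsPGroup H.r (zpowers x)).exists_le_sylow
    refine hgrow P (hP (mem_zpowers x)) hxD hxc fun hle => hcase x hxN hxc P fun g hg => ?_
    refine mem_centralizer_singleton_iff.2 (hDab g (hle ⟨hg, ?_⟩) x hxD).eq
    obtain ⟨e, he⟩ := P.isPGroup' ⟨g, hg⟩
    exact H.mem_of_rElement ⟨e, congrArg Subtype.val he⟩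
  let M : Subgroup G := normalizer (D : Set G)
  let Mn : Subgroup M := H.N.subgroupOf M
  let D' : Subgroup Mn := (D.subgroupOf M).subgroupOf Mn
  haveI hD'n : D'.Normal := ⟨fun a ha g => by
    show ((g * a * g⁻¹ : Mn) : M).1 ∈ D
    exact (mem_normalizer_iff.1 g.1.2 _).1 ha⟩
  have hVconj : ∀ p, ∀ g ∈ M, ∀ v ∈ primary p D hDab, g * v * g⁻¹ ∈ primary p D hDab := by
    rintro p g hg v ⟨hv, k, hk⟩
    exact ⟨(mem_normalizer_iff.1 hg v).1 hv, k, by rw [conj_pow, hk, mul_one, mul_inv_cancel]⟩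
  open scoped IsMulCommutative in
  have mk : ∀ (p : ℕ), ∀ [Fact p.Prime], ∀ d ∈ D, (∃ k, d ^ p ^ k = 1) → d ∉ center G →
      Rigid.{u, u} p (Mn ⧸ D') := by
    intro p _ d hd hdp hdc
    haveI : IsMulCommutative (primary p D hDab) :=
      ⟨⟨fun a b => Subtype.ext (hDab _ a.2.1 _ b.2.1).eq⟩⟩
    refine
      { V := ↥(primary p D hDab)
        ρ := QuotientGroup.lift D' ((conjOn _ M (hVconj p)).comp Mn.subtype) ?_
        Z := (center G).subgroupOf (primary p D hDab)
        isP := fun ⟨v, hv⟩ => ⟨hv.2.choose, Subtype.ext hv.2.choose_spec⟩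
        ne_top := fun e => hdc (by
          have := e ▸ mem_top (⟨d, hd, hdp⟩ : primary p D hDab)
          exact this)
        fix_Z := ?_
        fix := ?_ }
    · intro a ha
      refine MulEquiv.ext fun v => Subtype.ext ?_
      show ((a : M) : G) * v * ((a : M) : G)⁻¹ = v
      exact mul_inv_eq_iff_eq_mul.2 (hDab _ ha _ v.2.1).eq
    · intro c z hz
      induction c using QuotientGroup.induction_on with
      | _ g =>
        refine Subtype.ext ?_
        show ((g : M) : G) * z * ((g : M) : G)⁻¹ = z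
        exact mul_inv_eq_iff_eq_mul.2 (mem_center_iff.1 hz _)
    · intro c hc v hv
      induction c using QuotientGroup.induction_on with
      | _ g =>
        by_contra hvc
        refine hc ((QuotientGroup.eq_one_iff g).2 ?_)
        have h : ((g : M) : G) * v * ((g : M) : G)⁻¹ = v := congrArg Subtype.val hv
        exact hcommD v.2.1 hvc g.2 (mul_inv_eq_iff_eq_mul.1 h)
  have hdiv : ∀ {p : ℕ}, [Fact p.Prime] → (∃ n, n ∈ H.N ∧ n ∈ M ∧ n ∉ D ∧ ∃ k, n ^ p ^ k = 1) →
      p ∣ Nat.card (Mn ⧸ D') := by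
    intro p _ ⟨n, hnN, hnM, hnD, k, hk⟩
    obtain ⟨c, hc⟩ : ∃ c : Mn ⧸ D', c = QuotientGroup.mk (⟨⟨n, hnM⟩, hnN⟩ : Mn) := ⟨_, rfl⟩
    have hc1 : c ≠ 1 := fun e => hnD ((QuotientGroup.eq_one_iff (⟨⟨n, hnM⟩, hnN⟩ : Mn)).1 (hc ▸ e))
    have hck : c ^ p ^ k = 1 := by
      rw [hc, ← QuotientGroup.mk_pow, show (⟨⟨n, hnM⟩, hnN⟩ : Mn) ^ p ^ k = 1 from Subtype.ext (Subtype.ext hk),
        QuotientGroup.mk_one]
    obtain ⟨i, -, hi⟩ := (Nat.dvd_prime_pow (Fact.out : p.Prime)).1 (orderOf_dvd_of_pow_eq_one hck)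
    refine (dvd_pow_self p ?_).trans (hi ▸ orderOf_dvd_natCard c)
    rintro rfl
    exact hc1 (orderOf_eq_one_iff.1 (by rw [hi, pow_zero]))
  obtain ⟨i, hi⟩ := hwp
  obtain ⟨k, -, hk⟩ := (Nat.dvd_prime_pow hq.out).1 (orderOf_dvd_of_pow_eq_one hi)
  obtain ⟨Q, hQ⟩ := (IsPGroup.of_card (p := q) (n := k) (by rw [Nat.card_zpowers, hk]) :
    IsPGroup q (zpowers w)).exists_le_sylow
  by_cases hle : (Q : Subgroup G) ⊓ H.N ≤ D
  · -- the Sylow subgroup normalises `D` and fixes a noncentral element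
    have hQM : (Q : Subgroup G) ≤ M := fun g hg => hnorm g w hwD hwc
      (hle ⟨(Q : Subgroup G).mul_mem ((Q : Subgroup G).mul_mem hg (hQ (mem_zpowers w))) ((Q : Subgroup G).inv_mem hg),
        hNn.conj_mem _ hwN g⟩)
    open scoped IsMulCommutative in
    haveI : IsMulCommutative (primary q D hDab) :=
      ⟨⟨fun a b => Subtype.ext (hDab _ a.2.1 _ b.2.1).eq⟩⟩
    open scoped IsMulCommutative in
    obtain ⟨e, hec, hefix⟩ : ∃ e : primary q D hDab, (e : G) ∉ center G ∧ ∀ g ∈ Q, g * e * g⁻¹ = e := by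
      let ψ := conjOn _ M (hVconj q)
      haveI : (Mn.map ψ).carrier.Finite := Set.toFinite _
      have hnd : ¬ q ∣ Nat.card ↥(Mn.map ψ) := by
        intro hd
        obtain ⟨c, hc⟩ := exists_prime_orderOf_dvd_card' q hd
        obtain ⟨T, hTQ, hTN, hT⟩ := CfsgLib.Invol.exists_le_sylow_inf H.N Q
        let T' : Subgroup Mn := (T.subgroupOf M).subgroupOf Mn
        have hT' : Nat.card T' = q ^ (Nat.card H.N).factorization q := by
          rw [Nat.card_congr (subgroupOfEquivOfLe (show T.subgroupOf M ≤ Mn from fun y hy => hTN hy)).toEquiv,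
            Nat.card_congr (subgroupOfEquivOfLe (hTQ.trans hQM)).toEquiv, hT]
        have hker : T' ≤ (ψ.comp Mn.subtype).ker := fun a ha => by
          refine MonoidHom.mem_ker.2 (MulEquiv.ext fun v => Subtype.ext ?_)
          show ((a : M) : G) * v * ((a : M) : G)⁻¹ = v
          exact mul_inv_eq_iff_eq_mul.2 (hDab _ (hle ⟨hTQ ha, hTN ha⟩) _ v.2.1).eq
        have hr : (ψ.comp Mn.subtype).range = Mn.map ψ := by
          rw [MonoidHom.range_comp, Subgroup.range_subtype]
        have h1 := (Subgroup.index_ker (ψ.comp Mn.subtype)).symm ▸ (hr.symm ▸ hd)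
        have h2 : q ∣ T'.index := h1.trans (Subgroup.index_dvd_of_le hker)
        have h3 := Nat.mul_dvd_mul h2 (dvd_refl (Nat.card T'))
        rw [Subgroup.index_mul_card, hT', ← pow_succ'] at h3
        have hMnN : Nat.card Mn ∣ Nat.card H.N := by
          rw [← Subgroup.card_map_of_injective (f := M.subtype) (K := Mn) M.subtype_injective]
          exact Subgroup.card_dvd_of_le (by rintro _ ⟨a, ha, rfl⟩; exact ha)
        have := (hq.out.pow_dvd_iff_le_factorization Nat.card_pos.ne').1 (h3.trans hMnN)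
        omega
      haveI : Finite ↥(Mn.map ψ) := Set.toFinite _
      haveI : Mn.Normal := hNn.subgroupOf M
      have hZ' : ∀ a ∈ Mn.map ψ, ∀ z ∈ (center G).subgroupOf (primary q D hDab),
          MonoidHom.id (MulAut (primary q D hDab)) a z = z := by
        rintro _ ⟨g, -, rfl⟩ z hz
        exact Subtype.ext (mul_inv_eq_iff_eq_mul.2 (mem_center_iff.1 hz _))
      have hX' : ∀ v : primary q D hDab, (∀ a ∈ Mn.map ψ, MonoidHom.id (MulAut (primary q D hDab)) a v = v) →
          v ∈ (center G).subgroupOf (primary q D hDab) := by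
        intro v hv
        by_contra hvc
        refine htD (hcommD v.2.1 hvc htN (mul_inv_eq_iff_eq_mul.1 ?_))
        exact congrArg Subtype.val (hv (ψ ⟨t, htn⟩) ⟨⟨t, htn⟩, htN, rfl⟩)
      obtain ⟨e, he, hfix⟩ := exists_fixed (MonoidHom.id (MulAut (primary q D hDab)))
        ((center G).subgroupOf (primary q D hDab)) (p := q)
        (fun ⟨v, hv⟩ => ⟨hv.2.choose, Subtype.ext hv.2.choose_spec⟩)
        (fun e => hwc (e ▸ mem_top (⟨w, hwD, i, hi⟩ : primary q D hDab) :))
        (Mn.map ψ) (((Q : Subgroup G).subgroupOf M).map ψ) hZ' hnd hX'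
        ((Q.isPGroup'.comap_of_injective M.subtype M.subtype_injective).map ψ)
        ((map_mono (show (Q : Subgroup G).subgroupOf M ≤ normalizer (Mn : Set M) from
          Mn.normalizer_eq_top ▸ le_top)).trans (Subgroup.le_normalizer_map ψ))
      exact ⟨e, he, fun g hg => congrArg Subtype.val (hfix (ψ ⟨g, hQM hg⟩) ⟨⟨g, hQM hg⟩, hg, rfl⟩)⟩
    have he2 : (e : G) ∈ H.N := (hmemD.1 e.2.1).1
    have hQe : (Q : Subgroup G) ≤ centralizer ({(e : G)} : Set G) := fun g hg =>
      mem_centralizer_singleton_iff.2 (mul_inv_eq_iff_eq_mul.1 (hefix g hg))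
    exact htD (hcommD hwD hwc htN (H.sylow_inf_central Q he2 hec hQe w (hQ (mem_zpowers w)) hwN t htN))
  · exact false_of_two_rigid hqr.symm (mk H.r x hxD hxp hxc) (mk q w hwD ⟨i, hi⟩ hwc)
      (hdiv ⟨t, htN, htn, htD, htp⟩) (hdiv (hgrow Q (hQ (mem_zpowers w)) hwD hwc hle))

/-- The conclusion. -/
theorem isNilpotent : Group.IsNilpotent H.N := by
  by_cases hcase : ∀ x ∈ H.N, x ∉ center G → ∀ P : Sylow H.r G, ¬ (P : Subgroup G) ≤ centralizer ({x} : Set G)
  · have key : ∀ n ∈ H.N, ∃ k, n ^ H.r ^ k ∈ center G := by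
      intro n hn
      obtain ⟨k, n', hn', hk⟩ := Nat.exists_eq_pow_mul_and_not_dvd (orderOf_pos n).ne' H.r H.rp.out.ne_one
      refine ⟨k, CfsgLib.PGroup.mem_of_forall_prime_pow_mem fun p hp => ?_⟩
      haveI : Fact p.Prime := ⟨hp⟩
      obtain ⟨j, m', hm', hj⟩ := Nat.exists_eq_pow_mul_and_not_dvd
        (show n' ≠ 0 by rintro rfl; exact hn' (dvd_zero _)) p hp.ne_one
      refine ⟨m', hm', ?_⟩
      have h1 : ((n ^ H.r ^ k) ^ m') ^ p ^ j = 1 := by
        rw [← pow_mul, ← pow_mul, mul_comm m', ← hj, ← hk, pow_orderOf_eq_one]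
      by_cases hpr : p = H.r
      · subst hpr
        have hj0 : j = 0 := by
          by_contra h
          exact hn' (hj ▸ (dvd_pow_self _ h).mul_right _)
        rw [hj0, pow_zero, pow_one] at h1
        rw [h1]
        exact one_mem _
      · exact H.rPrime_central hcase hpr (pow_mem (pow_mem hn _) _) ⟨j, h1⟩
    refine Group.of_quotient_center_nilpotent ?_
    refine IsPGroup.isNilpotent (p := H.r) fun c => ?_
    induction c using QuotientGroup.induction_on with
    | _ n =>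
      obtain ⟨k, hk⟩ := key n n.2
      refine ⟨k, ?_⟩
      rw [← QuotientGroup.mk_pow, QuotientGroup.eq_one_iff, mem_center_iff]
      exact fun g => Subtype.ext (mem_center_iff.1 hk g)
  · push Not at hcase
    obtain ⟨x, hx, hxc, P, hP⟩ := hcase
    haveI := H.rElement_central_of hx hxc hP
    open scoped IsMulCommutative in exact CommGroup.isNilpotent

end Hyp

end CfsgLib.PGroup.TwoClassSizes
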